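import Groth.Prelude.Def_W4c5qllcourbesmultMultCrv
import Mathlib.RingTheory.AdjoinRoot
import Mathlib.LinearAlgebra.FreeModule.PID
import Mathlib.LinearAlgebra.Dimension.Localization
import Mathlib.RingTheory.DiscreteValuationRing.Basic
import Mathlib.Tactic.Abel

/-!
# Modules over `R[X]/(X^n)` for a discrete valuation ring `R`
-/

namespace Groth.Agent.MultCrvLib

open MultCrv Polynomial

universe u

variable {R : Type u} [CommRing R] {n : ℕ}

theorem z_pow_n : z R n ^ n = 0 := by
  rw [z, ← map_pow, Ideal.Quotient.eq_zero_iff_mem]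
  exact Ideal.mem_span_singleton_self _

theorem z_pow_eq_zero {k : ℕ} (h : n ≤ k) : z R n ^ k = 0 := pow_eq_zero_of_le h z_pow_n

instance finite_Rn : Module.Finite R (Rn R n) := (monic_X_pow n).finite_quotient

instance free_Rn : Module.Free R (Rn R n) := (monic_X_pow n).free_quotient

/-- The coefficient of `X^(n-1)`. -/
noncomputable def tau : Rn R n →ₗ[R] R :=
  (lcoeff R (n - 1)).comp (AdjoinRoot.modByMonicHom (monic_X_pow (R := R) n))

theorem tau_mk (hn : 1 ≤ n) (p : R[X]) :
    tau (Ideal.Quotient.mk (Ideal.span {(X : R[X]) ^ n}) p) = p.coeff (n - 1) := by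
  show (p %ₘ (X ^ n : R[X])).coeff (n - 1) = _
  conv_rhs => rw [← modByMonic_add_div p (X ^ n : R[X])]
  rw [coeff_add, coeff_X_pow_mul', if_neg (by omega), add_zero]

theorem tau_pow (hn : 1 ≤ n) (i : ℕ) : tau (z R n ^ i) = if i = n - 1 then 1 else 0 := by
  rw [z, ← map_pow, tau_mk hn, coeff_X_pow]
  exact if_congr eq_comm rfl rfl

theorem eq_sum (hn : 1 ≤ n) (a : Rn R n) :
    a = ∑ i ∈ Finset.range n, tau (z R n ^ (n - 1 - i) * a) • z R n ^ i := by
  obtain ⟨p, rfl⟩ := Ideal.Quotient.mk_surjective a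
  have h : ∀ i ∈ Finset.range n, tau (z R n ^ (n - 1 - i) * Ideal.Quotient.mk _ p) • z R n ^ i =
      Ideal.Quotient.mk (Ideal.span {(X : R[X]) ^ n}) (C (p.coeff i) * X ^ i) := by
    intro i hi
    have := Finset.mem_range.1 hi
    rw [z, ← map_pow, ← map_pow, ← map_mul, tau_mk hn, coeff_X_pow_mul', if_pos (by omega),
      show n - 1 - (n - 1 - i) = i by omega, C_mul']
    rfl
  rw [Finset.sum_congr rfl h, ← map_sum, Ideal.Quotient.eq, Ideal.mem_span_singleton]
  rw [X_pow_dvd_iff]
  intro d hd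
  simp [coeff_sub, finset_sum_coeff, coeff_C_mul, coeff_X_pow, hd]

theorem eq_of_tau (hn : 1 ≤ n) {a b : Rn R n} (h : ∀ c, tau (c * a) = tau (c * b)) : a = b := by
  rw [eq_sum hn a, eq_sum hn b]
  exact Finset.sum_congr rfl fun i _ => by rw [h]

theorem exists_eq_pow_mul {j : ℕ} (hj : j ≤ n) {a : Rn R n} (h : z R n ^ j * a = 0) :
    ∃ b, a = z R n ^ (n - j) * b := by
  obtain ⟨p, rfl⟩ := Ideal.Quotient.mk_surjective a
  rw [z, ← map_pow, ← map_mul, Ideal.Quotient.eq_zero_iff_mem, Ideal.mem_span_singleton, X_pow_dvd_iff] at h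
  have hd : (X : R[X]) ^ (n - j) ∣ p := X_pow_dvd_iff.2 fun d hd => by
    have := h (d + j) (by omega)
    rwa [coeff_X_pow_mul', if_pos (by omega), Nat.add_sub_cancel] at this
  obtain ⟨q, rfl⟩ := hd
  exact ⟨Ideal.Quotient.mk _ q, by rw [map_mul, map_pow]⟩

section Mod

variable {M : Type*} [AddCommGroup M] [Module (Rn R n) M]

theorem z_pow_smul {k : ℕ} (h : n ≤ k) (m : M) : z R n ^ k • m = 0 := by
  rw [z_pow_eq_zero h]; exact zero_smul (Rn R n) m

variable [Module R M] [IsScalarTower R (Rn R n) M]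

theorem finite_R [Module.Finite (Rn R n) M] : Module.Finite R M := Module.Finite.trans (Rn R n) M

/-- An `R`-linear map which commutes with `z` is linear over `R[X]/(X^n)`. -/
noncomputable def ofCommZ (hn : 1 ≤ n) {N : Type*} [AddCommGroup N] [Module (Rn R n) N] [Module R N]
    [IsScalarTower R (Rn R n) N] (f : M →ₗ[R] N) (hf : ∀ m, f (z R n • m) = z R n • f m) :
    M →ₗ[Rn R n] N where
  toFun := f
  map_add' := f.map_add
  map_smul' a m := by
    have hk : ∀ k : ℕ, f (z R n ^ k • m) = z R n ^ k • f m := by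
      intro k
      induction k with
      | zero => simp
      | succ k ih => rw [pow_succ', mul_smul, hf, ih, ← mul_smul]
    rw [RingHom.id_apply, eq_sum hn a]
    simp only [Finset.sum_smul, map_sum, smul_assoc, map_smul, hk]

/-- The `R[X]/(X^n)`-form attached to an `R`-form. -/
noncomputable def formOf (hn : 1 ≤ n) (φ : M →ₗ[R] R) : M →ₗ[Rn R n] Rn R n :=
  ofCommZ hn
    { toFun := fun m => ∑ i ∈ Finset.range n, φ (z R n ^ (n - 1 - i) • m) • z R n ^ i
      map_add' := fun a b => by simp [smul_add, add_smul, Finset.sum_add_distrib]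
      map_smul' := fun r m => by
        rw [RingHom.id_apply, Finset.smul_sum]
        exact Finset.sum_congr rfl fun i _ => by rw [smul_comm, map_smul, smul_assoc] }
    (fun m => by
      obtain ⟨k, rfl⟩ : ∃ k, n = k + 1 := ⟨n - 1, by omega⟩
      show ∑ i ∈ Finset.range (k + 1), _ = z R (k + 1) • ∑ i ∈ Finset.range (k + 1), _
      rw [Finset.smul_sum, Finset.sum_range_succ', Finset.sum_range_succ]
      have h1 : z R (k + 1) ^ (k + 1) = 0 := z_pow_n
      rw [show k + 1 - 1 - 0 = k by omega, ← mul_smul, ← pow_succ, z_pow_smul le_rfl, map_zero, zero_smul, add_zero,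
        smul_comm (z R (k + 1)) (φ _), smul_eq_mul, ← pow_succ', h1, smul_zero, add_zero]
      refine Finset.sum_congr rfl fun i hi => ?_
      have := Finset.mem_range.1 hi
      rw [smul_comm (z R (k + 1)) (φ _), smul_eq_mul, ← pow_succ', ← mul_smul, ← pow_succ,
        show k + 1 - 1 - (i + 1) + 1 = k + 1 - 1 - i by omega])

theorem formOf_apply (hn : 1 ≤ n) (φ : M →ₗ[R] R) (m : M) :
    formOf hn φ m = ∑ i ∈ Finset.range n, φ (z R n ^ (n - 1 - i) • m) • z R n ^ i := rfl

theorem tau_formOf (hn : 1 ≤ n) (φ : M →ₗ[R] R) (m : M) : tau (formOf hn φ m) = φ m := by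
  rw [formOf_apply, map_sum, Finset.sum_eq_single (n - 1)]
  · rw [map_smul, tau_pow hn, if_pos rfl, Nat.sub_self, pow_zero, one_smul, smul_eq_mul, mul_one]
  · intro i _ hi
    rw [map_smul, tau_pow hn, if_neg hi, smul_zero]
  · intro h
    exact absurd (Finset.mem_range.2 (by omega)) h

/-- `R[X]/(X^n)`-forms are the same as `R`-forms. -/
noncomputable def dualEquiv (hn : 1 ≤ n) : (M →ₗ[Rn R n] Rn R n) ≃ (M →ₗ[R] R) where
  toFun f := tau.comp (f.restrictScalars R)
  invFun φ := formOf hn φ
  left_inv f := by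
    refine LinearMap.ext fun m => ?_
    rw [formOf_apply]
    conv_rhs => rw [eq_sum hn (f m)]
    refine Finset.sum_congr rfl fun i _ => ?_
    simp only [LinearMap.comp_apply, LinearMap.coe_restrictScalars, map_smul, smul_eq_mul]
  right_inv φ := LinearMap.ext fun m => tau_formOf hn φ m

theorem dualEquiv_apply (hn : 1 ≤ n) (f : M →ₗ[Rn R n] Rn R n) (m : M) :
    dualEquiv hn f m = tau (f m) := rfl

/-- Forms on a module extend along an inclusion with free quotient over `R`. -/
theorem exists_extend (hn : 1 ≤ n) {M' M'' : Type*} [AddCommGroup M'] [Module (Rn R n) M'] [AddCommGroup M'']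
    [Module (Rn R n) M''] [Module R M''] [IsScalarTower R (Rn R n) M''] [Module.Free R M''] (f : M' →ₗ[Rn R n] M)
    (g : M →ₗ[Rn R n] M'') (hf : Function.Injective f) (hg : Function.Surjective g)
    (hfg : LinearMap.range f = LinearMap.ker g) (h : M' →ₗ[Rn R n] Rn R n) :
    ∃ h' : M →ₗ[Rn R n] Rn R n, h'.comp f = h := by
  obtain ⟨s, hs⟩ := Module.projective_lifting_property (g.restrictScalars R) LinearMap.id hg
  let e := LinearEquiv.ofInjective f hf
  let hh : LinearMap.range f →ₗ[Rn R n] Rn R n := h.comp e.symm.toLinearMap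
  have hmem : ∀ m, m - s (g m) ∈ (LinearMap.range f).restrictScalars R := fun m => by
    have hg0 : g (m - s (g m)) = 0 := by
      rw [map_sub, show g (s (g m)) = g m from LinearMap.congr_fun hs (g m), sub_self]
    exact hfg ▸ LinearMap.mem_ker.2 hg0
  let p : M →ₗ[R] (LinearMap.range f).restrictScalars R :=
    LinearMap.codRestrict _ (LinearMap.id - s ∘ₗ g.restrictScalars R) hmem
  let ψ : M →ₗ[R] R := (tau.comp (hh.restrictScalars R)).comp p
  refine ⟨formOf hn ψ, LinearMap.ext fun u => eq_of_tau hn fun c => ?_⟩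
  show tau (c * formOf hn ψ (f u)) = tau (c * h u)
  rw [← smul_eq_mul, ← map_smul, ← map_smul f, ← smul_eq_mul, ← map_smul h, tau_formOf]
  show tau (hh (p (f (c • u)))) = _
  have hg0 : g (f (c • u)) = 0 := LinearMap.mem_ker.1 (hfg ▸ LinearMap.mem_range_self f (c • u))
  have hp : p (f (c • u)) = e (c • u) := by
    refine Subtype.ext ?_
    show f (c • u) - s (g (f (c • u))) = f (c • u)
    rw [hg0, map_zero, sub_zero]
  rw [hp]
  show tau (h (e.symm (e (c • u)))) = _
  rw [LinearEquiv.symm_apply_apply]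

/-- `z^(n-1)` factors through a free module on a torsion-free module. -/
theorem exists_factor_free [IsDomain R] [IsPrincipalIdealRing R] (hn : 1 ≤ n) [Module.Finite (Rn R n) M]
    [Module.IsTorsionFree R M] :
    ∃ (r : ℕ) (u : M →ₗ[Rn R n] (Fin r → Rn R n)) (v : (Fin r → Rn R n) →ₗ[Rn R n] M),
      v.comp u = (z R n ^ (n - 1)) • LinearMap.id := by
  haveI : Module.Finite R M := finite_R (n := n)
  let q : M →ₗ[R] M :=
    ((z R n ^ (n - 1)) • (LinearMap.id : M →ₗ[Rn R n] M)).restrictScalars R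
  let P := LinearMap.range q
  obtain ⟨r, b⟩ := Submodule.basisOfPid (Module.Free.chooseBasis R M) P
  choose c hc using fun j => LinearMap.mem_range.1 (b j).2
  let co : Fin r → M →ₗ[R] R := fun j => (b.coord j).comp q.rangeRestrict
  have hz : ∀ m : M, z R n ^ (n - 1) • (z R n • m) = 0 := fun m => by
    rw [← mul_smul, ← pow_succ, z_pow_smul (by omega)]
  let u : M →ₗ[Rn R n] (Fin r → Rn R n) := ofCommZ hn
    (LinearMap.pi fun j => (co j).smulRight (z R n ^ (n - 1)))
    (fun m => funext fun j => by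
      show co j (z R n • m) • z R n ^ (n - 1) = z R n • (co j m • z R n ^ (n - 1))
      have h1 : q.rangeRestrict (z R n • m) = 0 := Subtype.ext (hz m)
      rw [show co j (z R n • m) = 0 by simp only [co, LinearMap.comp_apply, h1, map_zero], zero_smul,
        smul_comm, smul_eq_mul, ← pow_succ', z_pow_eq_zero (by omega), smul_zero])
  refine ⟨r, u, Fintype.linearCombination (Rn R n) c, LinearMap.ext fun m => ?_⟩
  show Fintype.linearCombination (Rn R n) c (u m) = z R n ^ (n - 1) • m
  rw [Fintype.linearCombination_apply]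
  have h2 := congrArg Subtype.val (b.sum_repr (q.rangeRestrict m))
  rw [Submodule.coe_sum] at h2
  refine Eq.trans (Finset.sum_congr rfl fun j _ => ?_) h2
  show (co j m • z R n ^ (n - 1)) • c j = b.repr (q.rangeRestrict m) j • ((b j : P) : M)
  rw [smul_assoc, ← hc j]
  rfl

end Mod

end Groth.Agent.MultCrvLib
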