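import Groth.Agent.MultCrvLib.Filt
import Mathlib.Algebra.Homology.DerivedCategory.Ext.EnoughProjectives
import Mathlib.Algebra.Homology.DerivedCategory.Ext.ExactSequences
import Mathlib.Algebra.Homology.DerivedCategory.Ext.Linear
import Mathlib.Algebra.Category.ModuleCat.Projective
import Mathlib.Algebra.Category.ModuleCat.Ext.HasExt
import Mathlib.Algebra.Homology.ShortComplex.ModuleCat

/-!
# `Ext` over `R[X]/(X^n)`
-/

namespace Groth.Agent.MultCrvLib

open MultCrv CategoryTheory Abelian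

universe u

variable {R : Type u} [CommRing R] [IsDomain R] [IsPrincipalIdealRing R] {n : ℕ}


/-- The short complex of a finite free cover. -/
noncomputable abbrev cover {M : Type u} [AddCommGroup M] [Module (Rn R n) M] {r : ℕ}
    (π : (Fin r → Rn R n) →ₗ[Rn R n] M) : ShortComplex (ModuleCat.{u} (Rn R n)) :=
  ShortComplex.mk (ModuleCat.ofHom (LinearMap.ker π).subtype) (ModuleCat.ofHom π)
    (ModuleCat.hom_ext (LinearMap.ext fun x => x.2))

theorem cover_shortExact {M : Type u} [AddCommGroup M] [Module (Rn R n) M] {r : ℕ}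
    (π : (Fin r → Rn R n) →ₗ[Rn R n] M) (hπ : Function.Surjective π) : (cover π).ShortExact :=
  { exact := (ShortComplex.moduleCat_exact_iff_range_eq_ker (cover π)).2 (Submodule.range_subtype _)
    mono_f := (ModuleCat.mono_iff_injective (cover π).f).2 Subtype.val_injective
    epi_g := (ModuleCat.epi_iff_surjective (cover π).g).2 hπ }

instance cover_projective {M : Type u} [AddCommGroup M] [Module (Rn R n) M] {r : ℕ}
    (π : (Fin r → Rn R n) →ₗ[Rn R n] M) : Projective (cover π).X₂ :=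
  (IsProjective.iff_projective (R := Rn R n) (Fin r → Rn R n)).1 inferInstance

theorem smul_eq_comp' {C : Type*} [Category C] [Abelian C] [HasExt.{u} C] {A : Type*} [CommRing A]
    [Linear A C] {M N : C} {i : ℕ} (c : A) (x : Ext M N i) :
    c • x = (Ext.mk₀ (c • 𝟙 M)).comp x (zero_add i) := by
  rw [Ext.mk₀_smul, Ext.smul_comp, Ext.mk₀_id_comp]

variable {M : Type u} [AddCommGroup M] [Module (Rn R n) M] [Module R M] [IsScalarTower R (Rn R n) M]
  [Module.Finite (Rn R n) M] [Module.IsTorsionFree R M]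

theorem pow_smul_ext_eq_zero (hn : 1 ≤ n) {N : ModuleCat.{u} (Rn R n)} {i : ℕ}
    (x : Ext (ModuleCat.of (Rn R n) M) N (i + 1)) : (z R n ^ (n - 1)) • x = 0 := by
  obtain ⟨r, u, v, h⟩ := exists_factor_free (R := R) (M := M) hn
  have h' : (z R n ^ (n - 1)) • 𝟙 (ModuleCat.of (Rn R n) M) = ModuleCat.ofHom u ≫ ModuleCat.ofHom v :=
    ModuleCat.hom_ext h.symm
  haveI : Projective (ModuleCat.of (Rn R n) (Fin r → Rn R n)) :=
    (IsProjective.iff_projective (R := Rn R n) (Fin r → Rn R n)).1 inferInstance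
  rw [smul_eq_comp', h', ← Ext.mk₀_comp_mk₀, Ext.comp_assoc_of_second_deg_zero,
    Ext.eq_zero_of_projective ((Ext.mk₀ (ModuleCat.ofHom v)).comp x (zero_add _)), Ext.comp_zero]

theorem ext_one_eq_zero (hn : 1 ≤ n)
    (x : Ext (ModuleCat.of (Rn R n) M) (ModuleCat.of (Rn R n) (Rn R n)) 1) : x = 0 := by
  haveI : Module.Finite R M := finite_R (n := n)
  obtain ⟨r, π, hπ⟩ := Module.Finite.exists_fin' (Rn R n) M
  obtain ⟨x0, hx0⟩ := Ext.contravariant_sequence_exact₃ (cover_shortExact π hπ) _ x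
    (Ext.eq_zero_of_projective (P := (cover π).X₂) _) (add_zero 1)
  obtain ⟨h, rfl⟩ := (Ext.mk₀_bijective (cover π).X₁ (ModuleCat.of (Rn R n) (Rn R n))).2 x0
  obtain ⟨h', hh'⟩ := exists_extend hn (LinearMap.ker π).subtype π Subtype.val_injective hπ
    (Submodule.range_subtype _) h.hom
  have e : h = (cover π).f ≫ ModuleCat.ofHom h' := ModuleCat.hom_ext hh'.symm
  rw [← hx0, e, ← Ext.mk₀_comp_mk₀, ← Ext.comp_assoc_of_second_deg_zero,
    (cover_shortExact π hπ).extClass_comp, Ext.zero_comp]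

theorem ext_self_eq_zero (hn : 1 ≤ n) (i : ℕ) :
    ∀ (M : Type u) [AddCommGroup M] [Module (Rn R n) M] [Module R M] [IsScalarTower R (Rn R n) M]
      [Module.Finite (Rn R n) M] [Module.IsTorsionFree R M]
      (x : Ext (ModuleCat.of (Rn R n) M) (ModuleCat.of (Rn R n) (Rn R n)) (i + 1)), x = 0 := by
  induction i with
  | zero => intro M _ _ _ _ _ _ x; exact ext_one_eq_zero hn x
  | succ i ih =>
    intro M _ _ _ _ _ _ x
    obtain ⟨r, π, hπ⟩ := Module.Finite.exists_fin' (Rn R n) M
    obtain ⟨x0, hx0⟩ := Ext.contravariant_sequence_exact₃ (cover_shortExact π hπ) _ x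
      (Ext.eq_zero_of_projective (P := (cover π).X₂) _) (add_comm 1 (i + 1))
    haveI : Module.Finite (Rn R n) (LinearMap.ker π) :=
      Module.Finite.iff_fg.2 (IsNoetherian.noetherian _)
    haveI : Module.IsTorsionFree R (LinearMap.ker π) :=
      Subtype.val_injective.moduleIsTorsionFree _ (fun _ _ => rfl)
    rw [← hx0, ih (LinearMap.ker π) x0, Ext.comp_zero]

/-- Above degree one everything descends to the torsion-free kernel of a free cover. -/
theorem exists_tf_kernel (M : Type u) [AddCommGroup M] [Module (Rn R n) M] [Module.Finite (Rn R n) M]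
    {N : ModuleCat.{u} (Rn R n)} {i : ℕ} (x : Ext (ModuleCat.of (Rn R n) M) N (i + 2)) :
    ∃ (r : ℕ) (K : Submodule (Rn R n) (Fin r → Rn R n))
      (e : Ext (ModuleCat.of (Rn R n) M) (ModuleCat.of (Rn R n) K) 1)
      (x0 : Ext (ModuleCat.of (Rn R n) K) N (i + 1)), e.comp x0 (by omega) = x := by
  obtain ⟨r, π, hπ⟩ := Module.Finite.exists_fin' (Rn R n) M
  obtain ⟨x0, hx0⟩ := Ext.contravariant_sequence_exact₃ (cover_shortExact π hπ) _ x
    (Ext.eq_zero_of_projective (P := (cover π).X₂) _) (show 1 + (i + 1) = i + 2 by omega)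
  exact ⟨r, LinearMap.ker π, (cover_shortExact π hπ).extClass, x0, hx0⟩

omit [Module.IsTorsionFree R M] in
theorem isTorsionFree_of_ext_one (hn : 1 ≤ n)
    (h : ∀ x : Ext (ModuleCat.of (Rn R n) M) (ModuleCat.of (Rn R n) (Rn R n)) 1, x = 0) :
    Module.IsTorsionFree R M := by
  obtain ⟨r, π, hπ⟩ := Module.Finite.exists_fin' (Rn R n) M
  refine Module.IsTorsionFree.of_smul_eq_zero fun a t ht => ?_
  by_cases ha : a = 0
  · exact Or.inl ha
  · refine Or.inr ?_
    obtain ⟨x, rfl⟩ := hπ t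
    let K := (LinearMap.ker π).restrictScalars R
    have hy : a • x ∈ K := by
      show π (a • x) = 0
      rw [LinearMap.map_smul_of_tower]; exact ht
    obtain ⟨s, b⟩ := Submodule.basisOfPid (Module.Free.chooseBasis R (Fin r → Rn R n)) K
    have hco : ∀ j, ∃ c : R, b.repr ⟨a • x, hy⟩ j = a * c := by
      intro j
      let φ : LinearMap.ker π →ₗ[R] R := (b.coord j).comp
        ({ toFun := fun k => ⟨k.1, k.2⟩, map_add' := fun _ _ => rfl, map_smul' := fun _ _ => rfl } :
          LinearMap.ker π →ₗ[R] K)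
      have he : (cover_shortExact π hπ).extClass.comp
          (Ext.mk₀ (ModuleCat.ofHom (formOf hn φ) : (cover π).X₁ ⟶ ModuleCat.of (Rn R n) (Rn R n)))
          (add_zero 1) = 0 := h _
      obtain ⟨x2, hx2⟩ := Ext.contravariant_sequence_exact₁ (cover_shortExact π hπ) _ _ (add_zero 1) he
      obtain ⟨h2, rfl⟩ := (Ext.mk₀_bijective (cover π).X₂ (ModuleCat.of (Rn R n) (Rn R n))).2 x2
      rw [Ext.mk₀_comp_mk₀] at hx2
      have hx3 := (Ext.mk₀_bijective _ _).1 hx2
      refine ⟨dualEquiv hn h2.hom x, ?_⟩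
      rw [← smul_eq_mul, ← map_smul, dualEquiv_apply]
      have h4 := LinearMap.congr_fun (congrArg ModuleCat.Hom.hom hx3) (⟨a • x, hy⟩ : LinearMap.ker π)
      refine Eq.trans ?_ (congrArg tau h4).symm
      exact (tau_formOf hn φ (⟨a • x, hy⟩ : LinearMap.ker π)).symm
    choose c hc using hco
    have hk : a • x = a • ((∑ j, c j • b j : K) : Fin r → Rn R n) := by
      have h5 := congrArg Subtype.val (b.sum_repr ⟨a • x, hy⟩)
      rw [← Submodule.coe_smul, Finset.smul_sum]
      simp only [← mul_smul, ← hc]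
      exact h5.symm
    rw [(smul_right_injective (Fin r → Rn R n) ha) hk]
    exact (∑ j, c j • b j : K).2

end Groth.Agent.MultCrvLib
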