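import Groth.Agent.MultCrvLib.Basic

/-!
# The canonical filtrations of a module over `R[X]/(X^n)`
-/

namespace Groth.Agent.MultCrvLib

open MultCrv

universe u

variable {R : Type u} [CommRing R] {n : ℕ} {M : Type*} [AddCommGroup M] [Module (Rn R n) M]

theorem mem_filt {i : ℕ} {m : M} : m ∈ filt R n M i ↔ ∃ x, z R n ^ i • x = m := by
  simp [filt]

theorem mem_filt2 {i : ℕ} {m : M} : m ∈ filt2 R n M i ↔ z R n ^ i • m = 0 :=
  Submodule.mem_torsionBy_iff _ _

theorem filt2_mono {i j : ℕ} (h : i ≤ j) : filt2 R n M i ≤ filt2 R n M j := fun m hm => by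
  rw [mem_filt2] at hm ⊢
  rw [← Nat.sub_add_cancel h, pow_add, mul_smul, hm, smul_zero]

theorem filt_anti {i j : ℕ} (h : i ≤ j) : filt R n M j ≤ filt R n M i := fun m hm => by
  obtain ⟨x, rfl⟩ := mem_filt.1 hm
  exact mem_filt.2 ⟨z R n ^ (j - i) • x, by rw [← mul_smul, ← pow_add, Nat.add_sub_cancel' h]⟩

variable [Module R M] [IsScalarTower R (Rn R n) M]

theorem smul_comm' (r : R) (a : Rn R n) (m : M) : a • r • m = r • a • m :=
  smul_comm a r m

/-- A submodule over `R[X]/(X^n)` of a torsion-free module is free over `R`. -/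
theorem free_sub [IsDomain R] [IsPrincipalIdealRing R] [Module.Finite (Rn R n) M] [Module.IsTorsionFree R M]
    (N : Submodule (Rn R n) M) : Module.Free R N := by
  haveI : Module.Finite R M := finite_R (n := n)
  exact Module.Free.of_equiv ((Submodule.restrictScalarsEquiv R (Rn R n) M N).restrictScalars R)

/-- Torsion-freeness is detected on the elements killed by `z`. -/
theorem eq_zero_of_smul {r : R} (h1 : ∀ m ∈ filt2 R n M 1, r • m = 0 → m = 0) (m : M) (hm : r • m = 0) :
    m = 0 := by
  suffices ∀ k, ∀ m : M, z R n ^ k • m = 0 → r • m = 0 → m = 0 from this n m (z_pow_smul le_rfl m) hm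
  intro k
  induction k with
  | zero => intro m hk _; simpa using hk
  | succ k ih =>
    intro m hk hm
    refine h1 m (mem_filt2.2 ?_) hm
    rw [pow_one]
    exact ih _ (by rw [← mul_smul, ← pow_succ, hk]) (by rw [← smul_comm', hm, smul_zero])

end Groth.Agent.MultCrvLib
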